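import Groth.Prelude.Def_EGA43
import Groth.Agent.ConstrFib.Closure
import Mathlib.AlgebraicGeometry.PullbackCarrier
import Mathlib.AlgebraicGeometry.Stalk
import Mathlib.AlgebraicGeometry.Morphisms.FinitePresentation

/-! Morphisms open / universally open at a point. -/

set_option autoImplicit false

universe u w

open CategoryTheory Limits AlgebraicGeometry Topology EGA43

namespace Groth.Agent.UnivOpenAt

variable {X Y : Scheme.{u}}

theorem isOpenAt_comp_iso {P : Scheme.{u}} (e : P ⟶ X) [IsIso e] (f : X ⟶ Y) (p : P)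
    (h : IsOpenAt f.base (e p)) : IsOpenAt (e ≫ f).base p := by
  intro U hU
  have h2 : (e ≫ f) '' U = f '' (e '' U) := by rw [Set.image_image]; rfl
  show (e ≫ f) '' U ∈ nhds ((e ≫ f) p)
  rw [h2]
  exact h _ (e.isOpenEmbedding.isOpenMap.image_mem_nhds hU)

/-- A morphism universally open at `x` is open at the points over `x` of any base change. -/
theorem isOpenAt_of_isPullback {f : X ⟶ Y} {x : X} (h : IsUnivOpenAt f x) {X' Y' : Scheme.{u}}
    {a : X' ⟶ X} {f' : X' ⟶ Y'} {g : Y' ⟶ Y} (H : IsPullback a f' f g) (x' : X') (hx' : a x' = x) :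
    IsOpenAt f'.base x' := by
  have h1 := h Y' g (H.isoPullback.hom x') (by
    show (H.isoPullback.hom ≫ pullback.fst f g) x' = x
    rw [H.isoPullback_hom_fst]; exact hx')
  have h2 := isOpenAt_comp_iso H.isoPullback.hom (pullback.snd f g) x' h1
  rw [H.isoPullback_hom_snd] at h2
  exact h2

theorem isUnivOpenAt_of_isPullback {f : X ⟶ Y} {x : X} (h : IsUnivOpenAt f x) {X' Y' : Scheme.{u}}
    {a : X' ⟶ X} {f' : X' ⟶ Y'} {g : Y' ⟶ Y} (H : IsPullback a f' f g) (x' : X') (hx' : a x' = x) :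
    IsUnivOpenAt f' x' := fun _ g' x'' hx'' =>
  isOpenAt_of_isPullback h ((IsPullback.of_hasPullback f' g').paste_horiz H) x''
    (by rw [Scheme.Hom.comp_apply]; exact (congrArg a hx'').trans hx')

/-- Openness at a point descends along closed surjective morphisms. -/
theorem isOpenAt_of_closed_surjective {X₁ Y₁ : Scheme.{u}} {a : X₁ ⟶ X} {f₁ : X₁ ⟶ Y₁} {f : X ⟶ Y}
    {v : Y₁ ⟶ Y} (H : IsPullback a f₁ f v) (hv : IsClosedMap v.base) (hs : Function.Surjective v)
    (x : X) (h : ∀ x₁, a x₁ = x → IsOpenAt f₁.base x₁) : IsOpenAt f.base x := by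
  intro U hU
  have hcl : IsClosed (v '' (interior (f₁ '' (a ⁻¹' U)))ᶜ) := hv _ isOpen_interior.isClosed_compl
  refine Filter.mem_of_superset (hcl.isOpen_compl.mem_nhds (x := f x) ?_) ?_
  · rintro ⟨y₁, hy₁, hy⟩
    obtain ⟨x₁, hx₁, rfl⟩ := Scheme.exists_preimage_of_isPullback H x y₁ hy.symm
    exact hy₁ (mem_interior_iff_mem_nhds.2 (h x₁ hx₁ _ (a.continuous.continuousAt.preimage_mem_nhds
      (hx₁.symm ▸ hU))))
  · intro z hz
    obtain ⟨z₁, rfl⟩ := hs z
    by_contra hn
    exact hz ⟨z₁, fun hz₁ => hn (by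
      obtain ⟨w, hw, rfl⟩ := interior_subset hz₁
      exact ⟨a w, hw, congr($(H.w) w)⟩), rfl⟩

theorem isUnivOpenAt_of_universallyClosed_surjective {Y₁ : Scheme.{u}} (v : Y₁ ⟶ Y)
    [UniversallyClosed v] [Surjective v] (f : X ⟶ Y) (x : X)
    (h : ∀ x₁ : ↥(pullback f v), pullback.fst f v x₁ = x → IsUnivOpenAt (pullback.snd f v) x₁) :
    IsUnivOpenAt f x := by
  intro Y' g x' hx'
  let v' := pullback.snd v g
  let g₁ := pullback.fst v g
  let b : pullback (pullback.snd f v) g₁ ⟶ pullback f g :=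
    pullback.lift (pullback.fst _ g₁ ≫ pullback.fst f v) (pullback.snd _ g₁ ≫ v') (by
      rw [Category.assoc, pullback.condition, ← Category.assoc, pullback.condition, Category.assoc,
        pullback.condition, ← Category.assoc])
  have hb1 : b ≫ pullback.fst f g = pullback.fst _ g₁ ≫ pullback.fst f v := pullback.lift_fst _ _ _
  have H : IsPullback b (pullback.snd _ g₁) (pullback.snd f g) v' := by
    refine IsPullback.of_right ?_ (pullback.lift_snd _ _ _) (IsPullback.of_hasPullback f g)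
    rw [hb1, ← pullback.condition]
    exact (IsPullback.of_hasPullback _ g₁).paste_horiz (IsPullback.of_hasPullback f v)
  refine isOpenAt_of_closed_surjective H v'.isClosedMap v'.surjective x' (fun p hp => ?_)
  refine h (pullback.fst _ g₁ p) ?_ _ g₁ p rfl
  rw [← Scheme.Hom.comp_apply, ← hb1, Scheme.Hom.comp_apply, hp]
  exact hx'

theorem isUnivOpenAt_of_finite_closed_cover {ι : Type w} [Finite ι] (T : ι → Scheme.{u})
    (g : ∀ i, T i ⟶ Y) [∀ i, IsClosedImmersion (g i)] (hcov : ⋃ i, Set.range (g i) = Set.univ)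
    (f : X ⟶ Y) (x : X)
    (h : ∀ i, ∀ x' : ↥(pullback f (g i)), pullback.fst f (g i) x' = x →
      IsUnivOpenAt (pullback.snd f (g i)) x') : IsUnivOpenAt f x := by
  intro Y' t x' hx'
  intro U hU
  show pullback.snd f t '' U ∈ nhds (pullback.snd f t x')
  set f' := pullback.snd f t
  have hloc : ∀ i, f' '' U ∪ (Set.range (pullback.snd (g i) t))ᶜ ∈ nhds (f' x') := by
    intro i
    let c := pullback.snd (g i) t
    let t₁ := pullback.fst (g i) t
    by_cases hy : f' x' ∈ Set.range c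
    swap
    · exact Filter.mem_of_superset (c.isClosedEmbedding.isClosed_range.isOpen_compl.mem_nhds hy)
        Set.subset_union_right
    obtain ⟨y₁, hy₁⟩ := hy
    let b : pullback (pullback.snd f (g i)) t₁ ⟶ pullback f t :=
      pullback.lift (pullback.fst _ t₁ ≫ pullback.fst f (g i)) (pullback.snd _ t₁ ≫ c) (by
        rw [Category.assoc, pullback.condition, ← Category.assoc, pullback.condition, Category.assoc,
          pullback.condition, ← Category.assoc])
    have hb1 : b ≫ pullback.fst f t = pullback.fst _ t₁ ≫ pullback.fst f (g i) := pullback.lift_fst _ _ _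
    have H : IsPullback b (pullback.snd _ t₁) (pullback.snd f t) c := by
      refine IsPullback.of_right ?_ (pullback.lift_snd _ _ _) (IsPullback.of_hasPullback f t)
      rw [hb1, ← pullback.condition]
      exact (IsPullback.of_hasPullback _ t₁).paste_horiz (IsPullback.of_hasPullback f (g i))
    obtain ⟨p, hp, hpy⟩ := Scheme.exists_preimage_of_isPullback H x' y₁ hy₁.symm
    have hopen := h i (pullback.fst _ t₁ p)
      (by rw [← Scheme.Hom.comp_apply, ← hb1, Scheme.Hom.comp_apply, hp]; exact hx')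
      _ t₁ p rfl (b ⁻¹' U) (b.continuous.continuousAt.preimage_mem_nhds (hp.symm ▸ hU))
    obtain ⟨O, hO, hOsub⟩ : ∃ O, O ∈ nhds (c y₁) ∧ c ⁻¹' O ⊆ pullback.snd _ t₁ '' (b ⁻¹' U) := by
      have h2 : pullback.snd _ t₁ '' (b ⁻¹' U) ∈ nhds y₁ := hpy ▸ hopen
      rw [c.isClosedEmbedding.isInducing.nhds_eq_comap] at h2
      exact Filter.mem_comap.1 h2
    rw [← hy₁]
    refine Filter.mem_of_superset hO fun z hz => ?_
    by_cases hzc : z ∈ Set.range c
    · obtain ⟨z₁, rfl⟩ := hzc
      obtain ⟨w, hw, rfl⟩ := hOsub hz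
      exact Or.inl ⟨b w, hw, congr($(H.w) w)⟩
    · exact Or.inr hzc
  refine Filter.mem_of_superset (Filter.iInter_mem.2 hloc) fun z hz => ?_
  obtain ⟨i, y, hy⟩ := Set.mem_iUnion.1 (hcov.ge (Set.mem_univ (t z)))
  refine (Set.mem_iInter.1 hz i).resolve_right (fun hn => hn ?_)
  rw [Scheme.Pullback.range_snd]
  exact ⟨y, hy⟩

/-- For `f` lfp, universal openness at `x` may be tested after base change to `Spec 𝒪_{Y, f x}`. -/
theorem isUnivOpenAt_of_fromSpecStalk (f : X ⟶ Y) [LocallyOfFinitePresentation f] (x : X)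
    (x₁ : ↥(pullback f (Y.fromSpecStalk (f x))))
    (hx₁ : pullback.fst f (Y.fromSpecStalk (f x)) x₁ = x)
    (h : IsUnivOpenAt (pullback.snd f (Y.fromSpecStalk (f x))) x₁) : IsUnivOpenAt f x := by
  intro Y' g x' hx' U hU
  show pullback.snd f g '' U ∈ nhds (pullback.snd f g x')
  set f' := pullback.snd f g
  set y' := f' x'
  obtain ⟨O, hOU, hO, hxO⟩ := mem_nhds_iff.1 hU
  obtain ⟨_, ⟨W, hW, rfl⟩, hyW, -⟩ :=
    Y'.isBasis_affineOpens.exists_subset_of_mem_open (Set.mem_univ y') isOpen_univ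
  obtain ⟨_, ⟨V, hV, rfl⟩, hxV, hVO⟩ := (pullback f g).isBasis_affineOpens.exists_subset_of_mem_open
    (show x' ∈ O ∩ (f' ⁻¹ᵁ W : (pullback f g).Opens) from ⟨hxO, hyW⟩)
    (hO.inter (f' ⁻¹ᵁ W).2)
  have hVW : V ≤ f' ⁻¹ᵁ W := fun z hz => (hVO hz).2
  have := f'.finitePresentation_appLE hW hV hVW
  algebraize [(f'.appLE W V hVW).hom]
  let π := PrimeSpectrum.comap (algebraMap Γ(Y', W) Γ(pullback f g, V))
  have hπ : ∀ q, f' (hV.fromSpec q) = hW.fromSpec (π q) := fun q =>
    congr($((IsAffineOpen.SpecMap_appLE_fromSpec f' hW hV hVW).symm) q)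
  have hc : IsConstructible (Set.range π)ᶜ :=
    (PrimeSpectrum.isConstructible_range_comap (RingHom.finitePresentation_algebraMap.2 inferInstance)).compl
  have hgen : ∀ z, z ⤳ y' → z ∈ f' '' (V : Set ↥(pullback f g)) := by
    intro z hz
    let j := Y'.fromSpecStalk y'
    have hgy : g y' = f x := by
      rw [← hx']
      exact congr($((pullback.condition (f := f) (g := g)).symm) x')
    let t : Spec (Y'.presheaf.stalk y') ⟶ Spec (Y.presheaf.stalk (f x)) :=
      Spec.map (g.stalkMap y') ≫ Spec.map (Y.presheaf.stalkSpecializes (specializes_of_eq hgy))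
    have ht : t ≫ Y.fromSpecStalk (f x) = j ≫ g := by
      simp [t, j]
    let Q := pullback f (j ≫ g)
    let l : Q ⟶ pullback f g := pullback.map f (j ≫ g) f g (𝟙 _) j (𝟙 _) (by simp) (by simp)
    let m : Q ⟶ pullback f (Y.fromSpecStalk (f x)) :=
      pullback.lift (pullback.fst _ _) (pullback.snd _ _ ≫ t) (by
        rw [pullback.condition, Category.assoc, ht])
    have hl1 : l ≫ pullback.fst f g = pullback.fst f (j ≫ g) :=
      (pullback.lift_fst _ _ _).trans (Category.comp_id _)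
    have hl2 : l ≫ f' = pullback.snd f (j ≫ g) ≫ j := pullback.lift_snd _ _ _
    have hm1 : m ≫ pullback.fst f _ = pullback.fst f (j ≫ g) := pullback.lift_fst _ _ _
    have Hm : IsPullback m (pullback.snd f (j ≫ g)) (pullback.snd f (Y.fromSpecStalk (f x))) t := by
      refine IsPullback.of_right ?_ (pullback.lift_snd _ _ _) (IsPullback.of_hasPullback f _)
      rw [hm1, ht]
      exact IsPullback.of_hasPullback f (j ≫ g)
    have Hl : IsPullback l (pullback.snd f (j ≫ g)) f' j := by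
      refine IsPullback.of_right ?_ hl2 (IsPullback.of_hasPullback f g)
      rw [hl1]
      exact IsPullback.of_hasPullback f (j ≫ g)
    obtain ⟨q, hq, hqc⟩ := Scheme.exists_preimage_of_isPullback Hl x' (IsLocalRing.closedPoint _)
      (Scheme.fromSpecStalk_closedPoint).symm
    have hmq : m q = x₁ := by
      refine (IsPreimmersion.isEmbedding (f := pullback.fst f (Y.fromSpecStalk (f x)))).injective ?_
      rw [hx₁, ← Scheme.Hom.comp_apply, hm1, ← hl1, Scheme.Hom.comp_apply, hq]
      exact hx'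
    have hn := isOpenAt_of_isPullback h Hm q hmq (l ⁻¹' (V : Set ↥(pullback f g)))
      (l.continuous.continuousAt.preimage_mem_nhds (hq.symm ▸ V.2.mem_nhds hxV))
    have huniv : pullback.snd f (j ≫ g) '' (l ⁻¹' (V : Set ↥(pullback f g))) = Set.univ := by
      obtain ⟨O', hO'sub, hO', hcO'⟩ := mem_nhds_iff.1 hn
      refine Set.eq_univ_of_univ_subset fun w _ => hO'sub ?_
      have hcw : w ⤳ (pullback.snd f (j ≫ g)) q := hqc.symm ▸ IsLocalRing.specializes_closedPoint w
      exact hcw.mem_open hO' hcO'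
    obtain ⟨w, rfl⟩ : z ∈ Set.range j := by rw [Scheme.range_fromSpecStalk]; exact hz
    obtain ⟨p, hp, rfl⟩ := huniv.ge (Set.mem_univ w)
    exact ⟨l p, hp, congr($(Hl.w) p)⟩
  obtain ⟨p₀, hp₀⟩ : y' ∈ Set.range hW.fromSpec := by rw [hW.range_fromSpec]; exact hyW
  have hnot : p₀ ∉ closure (Set.range π)ᶜ := by
    intro hmem
    obtain ⟨q, hq, hqp⟩ := Groth.Agent.ConstrFib.exists_specializes_of_mem_closure hc hmem
    obtain ⟨v, hv, hvq⟩ := hgen (hW.fromSpec q) (hp₀ ▸ hqp.map hW.fromSpec.continuous)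
    obtain ⟨v', rfl⟩ : v ∈ Set.range hV.fromSpec := by rw [hV.range_fromSpec]; exact hv
    exact hq ⟨v', hW.fromSpec.isOpenEmbedding.injective ((hπ v').symm.trans hvq)⟩
  rw [← hp₀]
  refine Filter.mem_of_superset ((hW.fromSpec.isOpenEmbedding.isOpenMap _ isClosed_closure.isOpen_compl).mem_nhds
    ⟨p₀, hnot, rfl⟩) ?_
  rintro _ ⟨p, hp, rfl⟩
  obtain ⟨v', rfl⟩ : p ∈ Set.range π := by
    by_contra hn; exact hp (subset_closure hn)
  refine ⟨hV.fromSpec v', hOU (hVO ?_).1, hπ v'⟩
  rw [← hV.range_fromSpec]; exact ⟨v', rfl⟩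

end Groth.Agent.UnivOpenAt
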